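import Cfsg.Agent.H705.JM.BadFacts

/-!
# (F18) three commuting 2B elements whose points have trivial intersection
-/

set_option autoImplicit false

namespace Cfsg.Agent.H705.JM

open Cfsg Cfsg.Agent.J4.Rep112 Cfsg.Agent.J4.Beta Cfsg.Agent.J4.ClassesAbs
open Cfsg.Agent.J4.ClassesData Cfsg.Agent.J4.M24Hom Cfsg.Agent.J4.Classes Cfsg.Agent.J4.Pres
open Cfsg.Agent.J4.M24InvolData Cfsg.Agent.SporadicStructure.M24El
open Cfsg.Agent.H858.VK (rho_injective phi_injective actG mem_B phi_norm)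
open Cfsg.Agent.H858.Data (V rho_V V_xor V_zero V_sq V_inv V_comm V_inj V_mem)
open Cfsg.Agent.H858.Loc7 (Z)
open Cfsg.Agent.H825.JM (conj_word normalizer_EJ line_EJ)
open Cfsg.Agent.H860.JM Cfsg.Agent.H705.JM.BadData Cfsg.Agent.H705.JM.BadAbs
open Cfsg.Agent.H705.JM.BadBase Cfsg.Agent.H705.JM.BadFacts

/-- the group `Spor.J4` -/
local notation "𝒢" => Cfsg.Spor.J4
/-- the group `2^11` -/
local notation "𝓔" => Cfsg.Agent.J4.Invol.EJ

theorem xor_lt {a b : ℕ} (ha : a < 2048) (hb : b < 2048) : a ^^^ b < 2048 :=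
  Nat.xor_lt_two_pow (n := 11) ha hb

/-! ### (R1) -/

/-- the labels of `Z` -/
def zlab : List ℕ := [0, 165, 873, 972, 1394, 1495, 1563, 1726]

theorem zlab_mem : ∀ e ∈ zlab, V e ∈ Z := by
  have h : (zlab.all fun e => (List.range 8).any fun u =>
      Nat.beq (lin Cfsg.Agent.H858.Data.zl u) e) = true := by decide +kernel
  rw [List.all_eq_true] at h
  intro e he
  have h1 := h e he
  rw [List.any_eq_true] at h1
  obtain ⟨u, -, h2⟩ := h1
  rw [Nat.beq_eq] at h2
  exact Cfsg.Agent.H858.Loc7.V_mem_Z u h2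

theorem zlab_lt : ∀ e ∈ zlab, e < 2048 := by decide

/-- the elements of `Z` of type a with `V(q)` -/
def zf (q : ℕ) : List ℕ := zlab.filter fun e => Nat.beq e 0 ||
  (!(Nat.beq (Nat.xor e q) 0) && sx (Nat.xor e q))

theorem zf_ok : ((List.range 2048).all fun q => Nat.beq q 0 || !(sx q) ||
    Nat.ble 4 (zf q).length) = true := by decide +kernel

theorem r1 (h5 : F5 geo) : R1 geo := by
  rintro _ _ x ⟨k, rfl⟩ ⟨h, rfl⟩ hle hx hA
  have h1 : cj (h⁻¹ * k) Z ≤ 𝓔 := by
    rw [← cj_cj]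
    intro y hy
    rw [mem_cj] at hy
    have h2 := hle hy
    rw [mem_cj] at h2
    have e : h⁻¹ * (h⁻¹⁻¹ * y * h⁻¹) * h = y := by group
    rwa [e] at h2
  obtain ⟨m, hm⟩ := line_EJ h5 h1
  set g := h * phi m with hg
  have hP : cj h 𝓔 = cj g 𝓔 := by
    rw [hg, ← cj_cj]
    congr 1
    rw [eq_comm, cj_eq_iff]
    exact phi_norm ⟨m, rfl⟩
  have hD : cj k Z = cj g Z := by
    rw [hg, ← cj_cj, ← hm, cj_cj, mul_inv_cancel_left]
  rw [hP] at hx
  rw [hD]
  obtain ⟨q, hq, rfl⟩ := exists_V hx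
  obtain ⟨h0, hs⟩ := sx_of_A hq (A_of_conj hA)
  have h2 := zf_ok
  rw [List.all_eq_true] at h2
  have h3 := h2 q (List.mem_range.2 hq)
  rw [hs, Bool.not_true, Bool.or_false, Bool.or_eq_true, Nat.beq_eq, Nat.ble_eq] at h3
  rcases h3 with h3 | h3
  · exact absurd h3 h0
  · refine h3.trans (le_ncard (g := g) ?_ ?_ ?_)
    · exact List.Nodup.filter _ (by decide)
    · intro e he
      exact zlab_lt e (List.mem_filter.1 he).1
    · intro e he
      obtain ⟨he1, he2⟩ := List.mem_filter.1 he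
      refine ⟨?_, ?_⟩
      · rw [mem_cj]
        have e1 : g⁻¹ * (g * V e * g⁻¹) * g = V e := by group
        rw [e1]
        exact zlab_mem e he1
      · rw [Bool.or_eq_true, Nat.beq_eq, Bool.and_eq_true, Bool.not_eq_true'] at he2
        rcases he2 with he2 | ⟨he2, he3⟩
        · left
          rw [he2, V_zero, mul_one, mul_inv_cancel]
        · right
          rw [conj_mul, ← V_xor]
          refine A_conj' (A_of_sx (xor_lt (zlab_lt e he1) hq) ?_ he3)
          intro h4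
          have h5 : Nat.beq (Nat.xor e q) 0 = true := by
            rw [Nat.beq_eq]
            exact h4
          rw [h5] at he2
          exact absurd he2 (by decide)

/-! ### (Z1) -/

/-- the labels of `[V, X]` -/
def lX : List ℕ := (List.range 2048).filter fun v => Nat.beq (lin Ax v) v && Nat.beq (v % 2) 0

theorem lX_length : lX.length = 32 := by decide +kernel

theorem lX_sx : (lX.all fun v => Nat.beq v 0 || sx v) = true := by decide +kernel

theorem xor_odd {k v : ℕ} (hk : k % 2 = 1) (hv : v % 2 = 0) : (v ^^^ k) % 2 = 1 := by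
  rw [xor_mod_two, hk, hv]

theorem Ax_xor {k v : ℕ} (hk : lin Ax k = k) (hv : lin Ax v = v) : lin Ax (v ^^^ k) = v ^^^ k := by
  rw [Cfsg.Agent.H858.Pent.lin_xor, hk, hv]

/-- `F_w ⊇ [V, X]` for `w = V(k) X` of class 2A -/
theorem fs_X {g : 𝒢} {k v : ℕ} (hk : k < 2048) (hfk : lin Ax k = k) (hk1 : k % 2 = 1)
    (hv : v ∈ lX) : g * V v * g⁻¹ ∈ Fs geo (cj g 𝓔) (g * (V k * phi XM) * g⁻¹) := by
  have h1 := lX_sx
  rw [List.all_eq_true] at h1
  have h2 := h1 v hv
  obtain ⟨h3, h4⟩ := List.mem_filter.1 hv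
  rw [List.mem_range] at h3
  rw [Bool.and_eq_true, Nat.beq_eq, Nat.beq_eq] at h4
  rw [Bool.or_eq_true, Nat.beq_eq] at h2
  refine ⟨mem_cj_V _ _, ?_, ?_⟩
  · rw [conj_mul, conj_mul]
    congr 2
    exact (comm_iff actX' Ax_lt h3).2 h4.1
  · by_cases h0 : v = 0
    · left
      rw [h0, V_zero, mul_one, mul_inv_cancel]
    · right
      refine ⟨A_conj' (A_of_sx h3 h0 (h2.resolve_left h0)), ?_⟩
      rw [conj_mul, ← mul_assoc (V v) (V k), ← V_xor]
      exact A_conj' (X_A (xor_lt h3 hk) (Ax_xor hfk h4.1) (xor_odd hk1 h4.2))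

theorem mem20 : 20 ∈ lX := by decide +kernel

theorem isX_X {g : 𝒢} {k : ℕ} (hk : k < 2048) (hfk : lin Ax k = k) (hk1 : k % 2 = 1) :
    IsX geo (cj g 𝓔) (g * (V k * phi XM) * g⁻¹) (g * V 20 * g⁻¹) := by
  refine ⟨fs_X hk hfk hk1 mem20, ?_, X_line hk hfk hk1⟩
  exact A_ne (A_conj' (A_of_sx (by norm_num) (by norm_num) (by decide +kernel)))

theorem act_X {g : 𝒢} {k : ℕ} (hk : k < 2048) (hfk : lin Ax k = k) (hk1 : k % 2 = 1) :
    Act geo (cj g 𝓔) (g * (V k * phi XM) * g⁻¹) := by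
  refine ⟨?_, ?_, A_conj' (X_A hk hfk hk1)⟩
  · rw [normalizer_cj, mem_cj]
    have e : g⁻¹ * (g * (V k * phi XM) * g⁻¹) * g = V k * phi XM := by group
    rw [e]
    exact Subgroup.mul_mem _ (Subgroup.le_normalizer (V_mem k)) (phi_norm ⟨_, rfl⟩)
  · intro h
    rw [mem_cj] at h
    have e : g⁻¹ * (g * (V k * phi XM) * g⁻¹) * g = V k * phi XM := by group
    rw [e] at h
    apply phiX_notMem
    have h1 := Subgroup.mul_mem _ (V_mem k) h
    rwa [← mul_assoc, V_sq, one_mul] at h1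

theorem kb_X (hkind : ∀ P w, geo.Pt P → Act geo P w → KA geo P w ∨ KB geo P w) {g : 𝒢} {k : ℕ}
    (hk : k < 2048) (hfk : lin Ax k = k) (hk1 : k % 2 = 1) :
    KB geo (cj g 𝓔) (g * (V k * phi XM) * g⁻¹) := by
  rcases hkind _ _ ⟨g, rfl⟩ (act_X (g := g) hk hfk hk1) with h | h
  · exfalso
    have h1 : lX.length ≤ _ := le_ncard (g := g)
      (S := Fs geo (cj g 𝓔) (g * (V k * phi XM) * g⁻¹))
      (List.Nodup.filter _ List.nodup_range)
      (fun e he => List.mem_range.1 (List.mem_filter.1 he).1) (fun e he => fs_X hk hfk hk1 he)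
    rw [lX_length, h.card] at h1
    omega
  · exact h

theorem duad_X : ((List.range 2048).all fun k => !(Nat.beq (lin Ax k) k) || Nat.beq k 0 || sx k ||
    (Nat.beq (k % 2) 1 && !(sx (Nat.xor k 20)) && !(Nat.beq (Nat.xor k 20) 0))) = true := by
  decide +kernel

theorem fano_two : ∀ k < 8, k ≠ 0 → ∃ e₁ ∈ fano k, ∃ e₂ ∈ fano k, e₁ ≠ e₂ ∧ e₁ ≠ 0 ∧ e₂ ≠ 0 ∧
    e₁ < 2048 ∧ e₂ < 2048 := by decide

theorem z1 (h4 : F4 geo) (hkind : ∀ P w, geo.Pt P → Act geo P w → KA geo P w ∨ KB geo P w) :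
    Z1 geo := by
  rintro a b z _ P' ha hb hab ⟨g0, rfl⟩ hP' haP hbP hne hz
  have hbn : b ∈ Subgroup.normalizer (cj g0 𝓔 : Set 𝒢) := norm4 h4 ha ⟨g0, rfl⟩ haP hab.symm
  have hbP0 : b ∉ cj g0 𝓔 := fun h => hne (uniq4 h4 hb ⟨g0, rfl⟩ hP' h hbP)
  obtain ⟨g, hg, v, hv, hb1 | hb1⟩ := types hbn hbP0 (B_sq hb)
  · -- type 1
    exfalso
    rw [hb1] at hb hbP
    obtain ⟨-, h0, h8⟩ := kap_B hv (B_of_conj hb)
    have h1 := one_pts h4 hv hb hP' hbP
    obtain ⟨e₁, m₁, e₂, m₂, n12, n1, n2, l1, l2⟩ := fano_two _ h8 h0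
    have h2 : ∀ e ∈ fano (lin KK v), e ≠ 0 → e < 2048 → g * V e * g⁻¹ = z := by
      intro e he he0 hlt
      rcases (hz _).1 ⟨by rw [← hg]; exact mem_cj_V g e, h1 e he⟩ with h3 | h3
      · exfalso
        apply V_ne hlt he0
        calc V e = g⁻¹ * (g * V e * g⁻¹) * g := by group
          _ = 1 := by rw [h3]; group
      · exact h3
    have h3 := (h2 e₁ m₁ n1 l1).trans (h2 e₂ m₂ n2 l2).symm
    exact n12 (V_inj l1 l2 (conj_inj h3))
  · -- type 2
    rw [hb1] at hb hbP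
    obtain ⟨k, hk, hbk, hVk⟩ := X_norm hv hb
    rw [hb1, hbk] at hab
    rw [hbk] at hb hbP
    have hPk : cj g0 𝓔 = cj k 𝓔 := by rw [hk, hg]
    rw [hPk] at haP hz hne
    have h20 : k * V 20 * k⁻¹ ∈ cj k 𝓔 ⊓ P' := ⟨mem_cj_V _ _, X20 h4 hP' hbP⟩
    have h201 : k * V 20 * k⁻¹ ≠ 1 := A_ne (A_conj' (A_of_sx (by norm_num) (by norm_num)
      (by decide +kernel)))
    have hz20 : z = k * V 20 * k⁻¹ := by
      rcases (hz _).1 h20 with h1 | h1
      · exact absurd h1 h201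
      · exact h1.symm
    obtain ⟨q, hq, rfl⟩ := exists_V haP
    obtain ⟨q0, qs⟩ := sx_of_B hq (B_of_conj ha)
    have hcomm : V q * (V 0 * phi XM) = V 0 * phi XM * V q := by
      rw [conj_mul, conj_mul] at hab
      rw [V_zero, one_mul]
      exact conj_inj hab
    have hfq : lin Ax q = q := (comm_iff actX' Ax_lt hq).1 hcomm
    have h1 := duad_X
    rw [List.all_eq_true] at h1
    have h2 := h1 q (List.mem_range.2 hq)
    rw [hfq, Nat.beq_refl, Bool.not_true, Bool.false_or, qs, Bool.or_false, Bool.or_eq_true,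
      Nat.beq_eq, Bool.and_eq_true, Bool.and_eq_true, Nat.beq_eq, Bool.not_eq_true',
      Bool.not_eq_true'] at h2
    obtain ⟨⟨hq1, hq2⟩, hq3⟩ := h2.resolve_left q0
    have hab' : k * V q * k⁻¹ * b = k * (V q * phi XM) * k⁻¹ := by
      rw [hb1, hbk, conj_mul]
    rw [hab', hPk, hz20]
    refine ⟨A_conj' (X_A hq hfq hq1), kb_X hkind hq hfq hq1, isX_X hq hfq hq1, ?_⟩
    rw [conj_mul, ← V_xor]
    refine B_conj' (B_of_sx (xor_lt hq (by norm_num)) ?_ hq2)
    intro h3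
    have h5 : Nat.beq (Nat.xor q 20) 0 = true := by
      rw [Nat.beq_eq]
      exact h3
    rw [h5] at hq3
    exact absurd hq3 (by decide)

/-! ### (Z3) -/

/-- the labels of `[V, σ]` -/
def l1 : List ℕ := (List.range 2048).filter fun v => Nat.beq (lin A1 v) v && Nat.beq (lin KK v) 0

theorem l1_length : l1.length = 16 := by decide +kernel

theorem norm_mul {G : Type*} [Group G] {P : Subgroup G} {x y : G} (hx : x ∈ P)
    (hy : y ∈ Subgroup.normalizer (P : Set G)) : x * y ∈ Subgroup.normalizer (P : Set G) :=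
  Subgroup.mul_mem _ (Subgroup.le_normalizer hx) hy

theorem z3 (h4 : F4 geo) (h5 : F5 geo) (h6 : F6 geo) : Z3 geo := by
  rintro w w' z _ P' ⟨g0, rfl⟩ hKB hX hw hww hB hP' hwP'
  have htn : w * w' ∈ Subgroup.normalizer (cj g0 𝓔 : Set 𝒢) := norm_mul hw hKB.act.mem
  have htP : w * w' ∉ cj g0 𝓔 := by
    intro h
    apply hKB.act.not_mem
    have h1 := Subgroup.mul_mem _ (Subgroup.inv_mem _ hw) h
    rwa [inv_mul_cancel_left] at h1
  obtain ⟨g, hg, v, hv, ht | ht⟩ := types htn htP (B_sq hB)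
  · -- type 1
    exfalso
    rw [← hg] at hw hKB
    obtain ⟨q, hq, rfl⟩ := exists_V hw
    have hw' : w' = g * (V (q ^^^ v) * phi (el P1)) * g⁻¹ := by
      have e : w' = g * V q * g⁻¹ * (g * V q * g⁻¹ * w') := by
        rw [← mul_assoc, conj_mul, V_sq, mul_one, mul_inv_cancel, one_mul]
      rw [e, ht, conj_mul, V_xor, mul_assoc (V q) (V v)]
    have hA := hKB.act.A
    rw [hw'] at hA
    obtain ⟨f1, k1⟩ := kap_A (xor_lt hq hv) (A_of_conj hA)
    have h1 : (Fs geo (cj g 𝓔) w').ncard ≤ l1.length := by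
      refine ncard_le (g := g) ?_
      rintro x ⟨hx1, hx2, hx3⟩
      obtain ⟨y, hy, rfl⟩ := exists_V hx1
      refine ⟨y, ?_, rfl⟩
      have hfy : lin A1 y = y := by
        rw [hw', conj_mul, conj_mul] at hx2
        exact (comm_iff act1' A1_lt hy).1 (conj_inj hx2)
      have hky : lin KK y = 0 := by
        rcases hx3 with hx3 | ⟨-, hx3⟩
        · have h2 : V y = V 0 := by
            rw [V_zero]
            calc V y = g⁻¹ * (g * V y * g⁻¹) * g := by group
              _ = 1 := by rw [hx3]; group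
          rw [V_inj hy (by norm_num) h2]
          decide
        · rw [hw', conj_mul, ← mul_assoc (V y), ← V_xor] at hx3
          obtain ⟨-, k2⟩ := kap_A (xor_lt hy (xor_lt hq hv)) (A_of_conj hx3)
          rw [Cfsg.Agent.H858.Pent.lin_xor, k1, Nat.xor_zero] at k2
          exact k2
      refine List.mem_filter.2 ⟨List.mem_range.2 hy, ?_⟩
      rw [Bool.and_eq_true, Nat.beq_eq, Nat.beq_eq]
      exact ⟨hfy, hky⟩
    rw [l1_length, hKB.card] at h1
    omega
  · -- type 2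
    have hBt := hB
    rw [ht] at hBt
    obtain ⟨k, hk, htk, hVk⟩ := X_norm hv hBt
    rw [htk] at ht
    have hPk : cj g0 𝓔 = cj k 𝓔 := by rw [hk, hg]
    rw [hPk] at hw hKB hX ⊢
    rw [ht] at hwP'
    have hup := X_upper h4 h5 h6 hP' hwP'
    have hz : z = k * V 20 * k⁻¹ := by
      obtain ⟨q, hq, rfl⟩ := exists_V hw
      have hw' : w' = k * (V q * phi XM) * k⁻¹ := by
        have e : w' = k * V q * k⁻¹ * (k * V q * k⁻¹ * w') := by
          rw [← mul_assoc, conj_mul, V_sq, mul_one, mul_inv_cancel, one_mul]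
        rw [e, ht, conj_mul]
      have hA := hKB.act.A
      rw [hw'] at hA
      obtain ⟨f1, k1⟩ := parity_A hq (A_of_conj hA)
      have h1 := isX_X (g := k) hq f1 k1
      rw [← hw'] at h1
      obtain ⟨x, -, hx, -⟩ := hKB.ex
      rw [hx _ hX, hx _ h1]
    rw [hz]
    exact hup

/-! ### (Be) -/

/-- an element in the coset -/
theorem coset {φ : 𝒢} {A : List ℕ} (hact : ∀ v, φ * V v * φ⁻¹ = V (lin A v))
    (hA : ∀ v < 2048, lin A v < 2048) {g a b : 𝒢} {v : ℕ} (hv : v < 2048)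
    (ha : a = g * (V v * φ) * g⁻¹) (haa : a * a = 1) (hab : a * b ∈ cj g 𝓔) :
    ∃ w < 2048, b = g * (V w * φ) * g⁻¹ := by
  obtain ⟨x, hx, h1⟩ := exists_V hab
  refine ⟨v ^^^ lin A x, xor_lt hv (hA x hx), ?_⟩
  have h2 : b = a * (a * b) := by rw [← mul_assoc, haa, one_mul]
  rw [h2, h1, ha, conj_mul, mul_assoc (V v), push hact, ← mul_assoc (V v), V_xor]

/-- the product of two elements of the coset -/
theorem coset_mul {φ : 𝒢} {A : List ℕ} (hact : ∀ v, φ * V v * φ⁻¹ = V (lin A v))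
    (hφ : φ * φ = 1) {g : 𝒢} {v w : ℕ} (hw : lin A w = w) :
    g * (V v * φ) * g⁻¹ * (g * (V w * φ) * g⁻¹) = g * V (v ^^^ w) * g⁻¹ := by
  rw [conj_mul]
  congr 2
  calc V v * φ * (V w * φ) = V v * (φ * V w) * φ := by group
    _ = V v * V w * (φ * φ) := by rw [push hact, hw]; group
    _ = V (v ^^^ w) := by rw [hφ, mul_one, V_xor]

/-- the check of a triple -/
def tri (a b c : ℕ) : Bool :=
  ((fano a).any fun e => (fano b).contains e && (fano c).contains e) ||
  ((fano a).any fun e => (fano b).contains e && (fano a).any fun e' => (fano c).contains e' &&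
    (fano b).any fun e'' => (fano c).contains e'' && F8.all fun f => (List.range 8).any fun i =>
      Nat.beq (lin [e, e', e''] i) f)

theorem tri_ok : ((List.range 8).all fun a => Nat.beq a 0 || (List.range 8).all fun b =>
    Nat.beq b 0 || (List.range 8).all fun c => Nat.beq c 0 || tri a b c) = true := by
  decide +kernel

theorem fano_pos : ∀ k < 8, ∀ e ∈ fano k, e ≠ 0 ∧ e < 2048 := by decide

/-- duads in `F`-cosets -/
theorem duad_F : ((List.range 2048).all fun v => !(Nat.beq (lin A1 v) v) || Nat.beq (lin KK v) 0 ||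
    !(Nat.beq (lin SS v) 0) || F8.any fun f => !(sx (Nat.xor v f))) = true := by decide +kernel

theorem SS_lt : ((List.range 2048).all fun v => Nat.blt (lin SS v) 2) = true := by decide +kernel

theorem F8_nodup : F8.Nodup := by decide
theorem F8_prop : ∀ f ∈ F8, f < 2048 ∧ lin A1 f = f ∧ lin KK f = 0 := by decide +kernel

theorem xor_fin : ∀ a < 8, ∀ b < 8, a ≠ b → a ^^^ b ≠ 0 := by decide

/-- the order of `K` -/
theorem card_K {K : Subgroup 𝒢} {g : 𝒢} {w w' : ℕ} (hw : w < 2048) (hw' : w' < 2048)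
    (h0 : lin KK w ≠ 0) (h0' : lin KK w' ≠ 0) (h1 : lin KK (w ^^^ w') ≠ 0)
    (hF : ∀ f ∈ F8, g * V f * g⁻¹ ∈ K) (hK : g * V w * g⁻¹ ∈ K) (hK' : g * V w' * g⁻¹ ∈ K) :
    32 ≤ Nat.card K := by
  have hmul : ∀ {a b : ℕ}, g * V a * g⁻¹ ∈ K → g * V b * g⁻¹ ∈ K → g * V (a ^^^ b) * g⁻¹ ∈ K := by
    intro a b ha hb
    have h2 := K.mul_mem ha hb
    rwa [conj_mul, ← V_xor] at h2
  have key : ∀ (l : List ℕ) (x : ℕ), l.Nodup → x < 2048 → (∀ e ∈ l, e < 2048) →
      (∀ e ∈ l, e ^^^ x ∉ l) → (l ++ l.map (· ^^^ x)).Nodup := by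
    intro l x hl hx hlt hn
    rw [List.nodup_append]
    refine ⟨hl, ?_, ?_⟩
    · refine List.Nodup.map ?_ hl
      intro a b hab
      have h2 : (a ^^^ x) ^^^ x = (b ^^^ x) ^^^ x := congrArg (· ^^^ x) hab
      rwa [Nat.xor_assoc, Nat.xor_self, Nat.xor_zero, Nat.xor_assoc, Nat.xor_self,
        Nat.xor_zero] at h2
    · rintro a ha b hb rfl
      obtain ⟨c, hc, hca⟩ := List.mem_map.1 hb
      exact hn c hc (by rw [hca]; exact ha)
  set l := F8 ++ F8.map (· ^^^ w) with hl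
  have hk : ∀ e ∈ l, lin KK e = 0 ∨ lin KK e = lin KK w := by
    intro e he
    rcases List.mem_append.1 he with h2 | h2
    · exact Or.inl (F8_prop e h2).2.2
    · obtain ⟨c, hc, rfl⟩ := List.mem_map.1 h2
      right
      show lin KK (c ^^^ w) = _
      rw [Cfsg.Agent.H858.Pent.lin_xor, (F8_prop c hc).2.2, Nat.zero_xor]
  have hlt : ∀ e ∈ l, e < 2048 := by
    intro e he
    rcases List.mem_append.1 he with h2 | h2
    · exact (F8_prop e h2).1
    · obtain ⟨c, hc, rfl⟩ := List.mem_map.1 h2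
      exact xor_lt (F8_prop c hc).1 hw
  have n1 : l.Nodup := by
    refine key F8 w F8_nodup hw (fun e he => (F8_prop e he).1) ?_
    intro e he h2
    have h3 := (F8_prop _ h2).2.2
    rw [Cfsg.Agent.H858.Pent.lin_xor, (F8_prop e he).2.2, Nat.zero_xor] at h3
    exact h0 h3
  have h1' : lin KK w ^^^ lin KK w' ≠ 0 := by
    rw [← Cfsg.Agent.H858.Pent.lin_xor]
    exact h1
  have n2 : (l ++ l.map (· ^^^ w')).Nodup := by
    refine key l w' n1 hw' hlt ?_
    intro e he h2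
    have h3 := hk _ h2
    rw [Cfsg.Agent.H858.Pent.lin_xor] at h3
    rcases hk e he with h4 | h4 <;> rw [h4] at h3
    · rw [Nat.zero_xor] at h3
      rcases h3 with h3 | h3
      · exact h0' h3
      · apply h1'
        rw [h3, Nat.xor_self]
    · rcases h3 with h3 | h3
      · exact h1' h3
      · apply h0'
        have h5 : lin KK w ^^^ (lin KK w ^^^ lin KK w') = lin KK w ^^^ lin KK w := by rw [h3]
        rwa [← Nat.xor_assoc, Nat.xor_self, Nat.zero_xor] at h5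
  have hlK : ∀ e ∈ l, g * V e * g⁻¹ ∈ K := by
    intro e he
    rcases List.mem_append.1 he with h2 | h2
    · exact hF e h2
    · obtain ⟨c, hc, rfl⟩ := List.mem_map.1 h2
      exact hmul (hF c hc) hK
  have h2 : (l ++ l.map (· ^^^ w')).length ≤ (K : Set 𝒢).ncard := by
    refine le_ncard (g := g) n2 ?_ ?_
    · intro e he
      rcases List.mem_append.1 he with h2 | h2
      · exact hlt e h2
      · obtain ⟨c, hc, rfl⟩ := List.mem_map.1 h2
        exact xor_lt (hlt c hc) hw'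
    · intro e he
      rcases List.mem_append.1 he with h2 | h2
      · exact hlK e h2
      · obtain ⟨c, hc, rfl⟩ := List.mem_map.1 h2
        exact hmul (hlK c hc) hK'
  have h3 : (l ++ l.map (· ^^^ w')).length = 32 := by
    rw [List.length_append, List.length_map, hl, List.length_append, List.length_map]
    rfl
  rw [h3] at h2
  exact h2

/-- a 2B element -/
theorem exists_B {g : 𝒢} {w : ℕ} (hw : w < 2048) (hf : lin A1 w = w) (h0 : lin KK w ≠ 0)
    (hs : lin SS w = 0) : ∃ f ∈ F8, geo.B (g * V (w ^^^ f) * g⁻¹) := by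
  have h1 := duad_F
  rw [List.all_eq_true] at h1
  have h2 := h1 w (List.mem_range.2 hw)
  rw [hf, hs, Nat.beq_refl, Nat.beq_refl, Bool.not_true, Bool.false_or, Bool.or_false,
    Bool.or_eq_true, Nat.beq_eq, List.any_eq_true] at h2
  rcases h2 with h2 | ⟨f, hfm, h2⟩
  · exact absurd h2 h0
  · refine ⟨f, hfm, B_conj' (B_of_sx (xor_lt hw (F8_prop f hfm).1) ?_ ?_)⟩
    · intro h3
      apply h0
      have h4 : lin KK (w ^^^ f) = lin KK 0 := by rw [h3]
      rw [Cfsg.Agent.H858.Pent.lin_xor, (F8_prop f hfm).2.2, Nat.xor_zero] at h4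
      rw [h4]
      decide
    · rw [Bool.not_eq_true'] at h2
      exact h2

theorem be (h4 : F4 geo) (h5 : F5 geo) (h6 : F6 geo) : Be geo := by
  rintro a b c Pa Pb Pc _ ha hb hc hab hac hbc hPa hPb hPc haP hbP hcP h0 ⟨g0, rfl⟩ han haP0 hab'
    hac'
  have h0' : ∀ u, u ∈ Pa → u ∈ Pb → u ∈ Pc → u = 1 := by
    intro u h1 h2 h3
    have h4 : u ∈ Pa ⊓ Pb ⊓ Pc := ⟨⟨h1, h2⟩, h3⟩
    rwa [h0, Subgroup.mem_bot] at h4
  obtain ⟨g, hg, v1, hv1, ha1 | ha1⟩ := types han haP0 (B_sq ha)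
  swap
  · -- type 2
    exfalso
    rw [← hg] at hab' hac'
    obtain ⟨v2, hv2, hb1⟩ := coset actX' Ax_lt hv1 ha1 (B_sq ha) hab'
    obtain ⟨v3, hv3, hc1⟩ := coset actX' Ax_lt hv1 ha1 (B_sq ha) hac'
    have key : ∀ {v : ℕ} {u : 𝒢} {P : Subgroup 𝒢}, v < 2048 → u = g * (V v * phi XM) * g⁻¹ →
        geo.B u → geo.Pt P → u ∈ P → g * V 20 * g⁻¹ ∈ P := by
      rintro v u P hv rfl hu hP huP
      obtain ⟨k, -, h1, h2⟩ := X_norm hv hu
      rw [h1] at huP
      rw [← h2]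
      exact X20 h4 hP huP
    refine A_ne (A_conj' (g := g) (A_of_sx (q := 20) (by norm_num) (by norm_num)
      (by decide +kernel))) (h0' _ (key hv1 ha1 ha hPa haP) (key hv2 hb1 hb hPb hbP)
        (key hv3 hc1 hc hPc hcP))
  · -- type 1
    rw [← hg] at hab' hac' han haP0 ⊢
    obtain ⟨v2, hv2, hb1⟩ := coset act1' A1_lt hv1 ha1 (B_sq ha) hab'
    obtain ⟨v3, hv3, hc1⟩ := coset act1' A1_lt hv1 ha1 (B_sq ha) hac'
    subst ha1 hb1 hc1
    obtain ⟨f1, k1, l1⟩ := kap_B hv1 (B_of_conj ha)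
    obtain ⟨f2, k2, l2⟩ := kap_B hv2 (B_of_conj hb)
    obtain ⟨f3, k3, l3⟩ := kap_B hv3 (B_of_conj hc)
    have p1 := one_pts h4 hv1 ha hPa haP
    have p2 := one_pts h4 hv2 hb hPb hbP
    have p3 := one_pts h4 hv3 hc hPc hcP
    have hV1 : ∀ e, e ≠ 0 → e < 2048 → g * V e * g⁻¹ ≠ 1 := by
      intro e he0 he h1
      apply V_ne he he0
      calc V e = g⁻¹ * (g * V e * g⁻¹) * g := by group
        _ = 1 := by rw [h1]; group
    -- the table
    have ht := tri_ok
    rw [List.all_eq_true] at ht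
    have ht1 := ht _ (List.mem_range.2 l1)
    rw [Bool.or_eq_true, Nat.beq_eq, List.all_eq_true] at ht1
    have ht2 := ht1.resolve_left k1 _ (List.mem_range.2 l2)
    rw [Bool.or_eq_true, Nat.beq_eq, List.all_eq_true] at ht2
    have ht3 := ht2.resolve_left k2 _ (List.mem_range.2 l3)
    rw [Bool.or_eq_true, Nat.beq_eq] at ht3
    have ht4 := ht3.resolve_left k3
    unfold tri at ht4
    rw [Bool.or_eq_true, List.any_eq_true, List.any_eq_true] at ht4
    rcases ht4 with ⟨e, he, he1⟩ | ⟨e, he, he1⟩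
    · exfalso
      rw [Bool.and_eq_true, List.contains_iff_mem, List.contains_iff_mem] at he1
      obtain ⟨n1, n2⟩ := fano_pos _ l1 e he
      exact hV1 e n1 n2 (h0' _ (p1 e he) (p2 e he1.1) (p3 e he1.2))
    · rw [Bool.and_eq_true, List.contains_iff_mem, List.any_eq_true] at he1
      obtain ⟨he2, e', he', he3⟩ := he1
      rw [Bool.and_eq_true, List.contains_iff_mem, List.any_eq_true] at he3
      obtain ⟨he4, e'', he'', he5⟩ := he3
      rw [Bool.and_eq_true, List.contains_iff_mem, List.all_eq_true] at he5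
      obtain ⟨he6, hF⟩ := he5
      obtain ⟨n1, m1⟩ := fano_pos _ l1 e he
      obtain ⟨n2, m2⟩ := fano_pos _ l1 e' he'
      obtain ⟨n3, m3⟩ := fano_pos _ l2 e'' he''
      set P := cj g 𝓔 with hP
      have hPt : geo.Pt P := ⟨g, rfl⟩
      -- the kappas are different
      have ne_of : ∀ {v w : ℕ} {Q R : Subgroup 𝒢}, v < 2048 → w < 2048 →
          lin KK v < 8 → lin KK w < 8 → lin KK v = lin KK w → lin KK v ≠ 0 → 
          (∀ x ∈ fano (lin KK v), g * V x * g⁻¹ ∈ Q) → (∀ x ∈ fano (lin KK w), g * V x * g⁻¹ ∈ R) →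
          ∀ x ∈ fano (lin KK v), g * V x * g⁻¹ ∈ R := by
        intro v w Q R _ _ _ _ h1 _ _ h3 x hx
        rw [h1] at hx
        exact h3 x hx
      have d12 : lin KK v1 ≠ lin KK v2 := by
        intro h1
        exact hV1 e' n2 m2 (h0' _ (p1 e' he') (p2 e' (by rw [← h1]; exact he')) (p3 e' he4))
      have d13 : lin KK v1 ≠ lin KK v3 := by
        intro h1
        exact hV1 e n1 m1 (h0' _ (p1 e he) (p2 e he2) (p3 e (by rw [← h1]; exact he)))
      have d23 : lin KK v2 ≠ lin KK v3 := by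
        intro h1
        exact hV1 e n1 m1 (h0' _ (p1 e he) (p2 e he2) (p3 e (by rw [← h1]; exact he2)))
      -- intersections of order 2
      have hna : P ≠ Pa := by rintro h1; rw [← h1] at haP; exact haP0 haP
      have hbP0 : g * (V v2 * phi (el P1)) * g⁻¹ ∉ P := by
        intro h1
        apply haP0
        have h2 := P.mul_mem hab' (P.inv_mem h1)
        rwa [mul_inv_cancel_right] at h2
      have hcP0 : g * (V v3 * phi (el P1)) * g⁻¹ ∉ P := by
        intro h1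
        apply haP0
        have h2 := P.mul_mem hac' (P.inv_mem h1)
        rwa [mul_inv_cancel_right] at h2
      have hnb : P ≠ Pb := by rintro h1; rw [← h1] at hbP; exact hbP0 hbP
      have hnc : P ≠ Pc := by rintro h1; rw [← h1] at hcP; exact hcP0 hcP
      have two : ∀ {Q : Subgroup 𝒢}, geo.Pt Q → P ≠ Q → ∀ {x y : 𝒢}, x ∈ P → x ∈ Q → x ≠ 1 →
          y ∈ P → y ∈ Q → y ≠ 1 → x ≠ y → geo.Ln (P ⊓ Q) := by
        intro Q hQ hne x y hx hx' hx1 hy hy' hy1 hxy
        rcases h5 P Q hPt hQ hne with h1 | ⟨z, -, h1⟩ | h1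
        · exfalso
          apply hx1
          have h2 : x ∈ P ⊓ Q := ⟨hx, hx'⟩
          rwa [h1, Subgroup.mem_bot] at h2
        · exfalso
          rcases (h1 x).1 ⟨hx, hx'⟩ with h2 | h2
          · exact hx1 h2
          · rcases (h1 y).1 ⟨hy, hy'⟩ with h3 | h3
            · exact hy1 h3
            · exact hxy (h2.trans h3.symm)
        · exact h1
      have uni : ∀ {Q R S : Subgroup 𝒢}, geo.Pt Q → geo.Pt R → P ≠ Q → P ≠ R →
          (∀ u, u ∈ Q → u ∈ R → u ∈ S → u = 1) → ∀ {x y : 𝒢}, x ∈ P → x ∈ Q → x ∈ R → x ≠ 1 →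
          y ∈ P → y ∈ Q → y ∈ S → y ≠ 1 → ∀ u, u ∈ P → u ∈ Q → u ∈ R → u = 1 ∨ u = x := by
        intro Q R S hQ hR hneQ hneR hS x y hx hx1 hx2 hx3 hy hy1 hy2 hy3 u hu hu1 hu2
        by_contra hcon
        rw [not_or] at hcon
        obtain ⟨hu3, hu4⟩ := hcon
        have D1 := two hQ hneQ hu hu1 hu3 hx hx1 hx3 hu4
        have D2 := two hR hneR hu hu2 hu3 hx hx2 hx3 hu4
        have D3 := h6.uniq _ _ D1 D2 u x hu3 hx3 hu4 ⟨hu, hu1⟩ ⟨hx, hx1⟩ ⟨hu, hu2⟩ ⟨hx, hx2⟩
        have D4 : y ∈ P ⊓ Q := ⟨hy, hy1⟩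
        rw [D3] at D4
        exact hy3 (hS y hy1 D4.2 hy2)
      have memP : ∀ x, g * V x * g⁻¹ ∈ P := fun x => mem_cj_V g x
      have u12 := uni hPa hPb hna hnb h0' (memP e) (p1 e he) (p2 e he2) (hV1 e n1 m1)
        (memP e') (p1 e' he') (p3 e' he4) (hV1 e' n2 m2)
      have u13 := uni hPa hPc hna hnc (fun u h1 h2 h3 => h0' u h1 h3 h2) (memP e') (p1 e' he')
        (p3 e' he4) (hV1 e' n2 m2) (memP e) (p1 e he) (p2 e he2) (hV1 e n1 m1)
      have u23 := uni hPb hPc hnb hnc (fun u h1 h2 h3 => h0' u h3 h1 h2) (memP e'') (p2 e'' he'')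
        (p3 e'' he6) (hV1 e'' n3 m3) (memP e) (p2 e he2) (p1 e he) (hV1 e n1 m1)
      -- the centralizing elements
      set Y : Set 𝒢 := {y | y ∈ Subgroup.normalizer (P : Set 𝒢) ∧
        y * (g * (V v1 * phi (el P1)) * g⁻¹) = g * (V v1 * phi (el P1)) * g⁻¹ * y ∧
        y * (g * (V v2 * phi (el P1)) * g⁻¹) = g * (V v2 * phi (el P1)) * g⁻¹ * y ∧
        y * (g * (V v3 * phi (el P1)) * g⁻¹) = g * (V v3 * phi (el P1)) * g⁻¹ * y} with hY
      have hfix : ∀ {Q R : Subgroup 𝒢} {x y : 𝒢}, x ∈ P → x ∈ Q → x ∈ R → x ≠ 1 →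
          (∀ u, u ∈ P → u ∈ Q → u ∈ R → u = 1 ∨ u = x) → y ∈ Subgroup.normalizer (P : Set 𝒢) →
          y ∈ Subgroup.normalizer (Q : Set 𝒢) → y ∈ Subgroup.normalizer (R : Set 𝒢) →
          y * x = x * y := by
        intro Q R x y hx hx1 hx2 hx3 hu hy hy1 hy2
        rcases hu (y * x * y⁻¹) ((Subgroup.mem_normalizer_iff.1 hy x).1 hx)
          ((Subgroup.mem_normalizer_iff.1 hy1 x).1 hx1)
          ((Subgroup.mem_normalizer_iff.1 hy2 x).1 hx2) with h1 | h1
        · exfalso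
          apply hx3
          calc x = y⁻¹ * (y * x * y⁻¹) * y := by group
            _ = 1 := by rw [h1]; group
        · rwa [mul_inv_eq_iff_eq_mul] at h1
      set K : Subgroup 𝒢 := P ⊓ Subgroup.centralizer Y with hK
      have hmemK : ∀ x, x ∈ P → (∀ y ∈ Y, y * x = x * y) → x ∈ K := by
        intro x hx hx1
        rw [hK, Subgroup.mem_inf, Subgroup.mem_centralizer_iff]
        exact ⟨hx, hx1⟩
      have K12 : g * V e * g⁻¹ ∈ K := by
        refine hmemK _ (memP e) fun y hy => hfix (memP e) (p1 e he) (p2 e he2) (hV1 e n1 m1) u12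
          hy.1 (norm4 h4 ha hPa haP hy.2.1) (norm4 h4 hb hPb hbP hy.2.2.1)
      have K13 : g * V e' * g⁻¹ ∈ K := by
        refine hmemK _ (memP e') fun y hy => hfix (memP e') (p1 e' he') (p3 e' he4)
          (hV1 e' n2 m2) u13 hy.1 (norm4 h4 ha hPa haP hy.2.1) (norm4 h4 hc hPc hcP hy.2.2.2)
      have K23 : g * V e'' * g⁻¹ ∈ K := by
        refine hmemK _ (memP e'') fun y hy => hfix (memP e'') (p2 e'' he'') (p3 e'' he6)
          (hV1 e'' n3 m3) u23 hy.1 (norm4 h4 hb hPb hbP hy.2.2.1)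
          (norm4 h4 hc hPc hcP hy.2.2.2)
      have hmul : ∀ {x x' : ℕ}, g * V x * g⁻¹ ∈ K → g * V x' * g⁻¹ ∈ K →
          g * V (x ^^^ x') * g⁻¹ ∈ K := by
        intro x x' hx hx'
        have h2 := K.mul_mem hx hx'
        rwa [conj_mul, ← V_xor] at h2
      have hprod : ∀ {x x' : 𝒢}, (∀ y ∈ Y, y * x = x * y) → (∀ y ∈ Y, y * x' = x' * y) →
          ∀ y ∈ Y, y * (x * x') = x * x' * y := by
        intro x x' hx hx' y hy
        rw [← mul_assoc, hx y hy, mul_assoc, hx' y hy, mul_assoc]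
      have Kab : g * V (v1 ^^^ v2) * g⁻¹ ∈ K := by
        rw [← coset_mul act1' phi1_sq f2]
        exact hmemK _ hab' (hprod (fun y hy => hy.2.1) fun y hy => hy.2.2.1)
      have Kac : g * V (v1 ^^^ v3) * g⁻¹ ∈ K := by
        rw [← coset_mul act1' phi1_sq f3]
        exact hmemK _ hac' (hprod (fun y hy => hy.2.1) fun y hy => hy.2.2.2)
      have KF : ∀ f ∈ F8, g * V f * g⁻¹ ∈ K := by
        intro f hf
        have h1 := hF f hf
        rw [List.any_eq_true] at h1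
        obtain ⟨i, -, h2⟩ := h1
        rw [Nat.beq_eq] at h2
        have h3 : Cfsg.Agent.H858.Pent.span [e, e', e''] ≤ K.comap (MulAut.conj g).toMonoidHom := by
          apply Cfsg.Agent.H858.Pent.span_le
          intro x hx
          simp only [List.mem_cons, List.not_mem_nil, or_false] at hx
          rcases hx with rfl | rfl | rfl
          · exact K12
          · exact K13
          · exact K23
        exact h3 (Cfsg.Agent.H858.Pent.mem_span_of i h2)
      have kx : ∀ {v w : ℕ}, lin KK v < 8 → lin KK w < 8 → lin KK v ≠ lin KK w →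
          lin KK (v ^^^ w) ≠ 0 := by
        intro v w hv hw hne
        rw [Cfsg.Agent.H858.Pent.lin_xor]
        exact xor_fin _ hv _ hw hne
      have e23 : (v1 ^^^ v2) ^^^ (v1 ^^^ v3) = v2 ^^^ v3 := by
        rw [Nat.xor_comm v1 v2, Nat.xor_assoc, ← Nat.xor_assoc v1 v1, Nat.xor_self, Nat.zero_xor]
      have x12 := xor_lt hv1 hv2
      have x13 := xor_lt hv1 hv3
      have x23 := xor_lt hv2 hv3
      have hA1 : ∀ {v w : ℕ}, lin A1 v = v → lin A1 w = w → lin A1 (v ^^^ w) = v ^^^ w := by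
        intro v w hv hw
        rw [Cfsg.Agent.H858.Pent.lin_xor, hv, hw]
      refine ⟨K, inf_le_left, ?_, ?_, ?_⟩
      · refine card_K x12 x13 (kx l1 l2 d12) (kx l1 l3 d13) ?_ KF Kab Kac
        rw [e23]
        exact kx l2 l3 d23
      · have hs := SS_lt
        rw [List.all_eq_true] at hs
        have s12 := hs _ (List.mem_range.2 x12)
        have s13 := hs _ (List.mem_range.2 x13)
        rw [Nat.blt_eq] at s12 s13
        have hsum : lin SS (v2 ^^^ v3) = lin SS (v1 ^^^ v2) ^^^ lin SS (v1 ^^^ v3) := by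
          rw [← Cfsg.Agent.H858.Pent.lin_xor, e23]
        have fin : ∀ {w : ℕ}, w < 2048 → lin A1 w = w → lin KK w ≠ 0 → lin SS w = 0 →
            g * V w * g⁻¹ ∈ K → ∃ t ∈ K, geo.B t := by
          intro w hw hf hk hs hwK
          obtain ⟨f, hf1, hf2⟩ := exists_B (g := g) hw hf hk hs
          exact ⟨_, hmul hwK (KF f hf1), hf2⟩
        by_cases z12 : lin SS (v1 ^^^ v2) = 0
        · exact fin x12 (hA1 f1 f2) (kx l1 l2 d12) z12 Kab
        by_cases z13 : lin SS (v1 ^^^ v3) = 0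
        · exact fin x13 (hA1 f1 f3) (kx l1 l3 d13) z13 Kac
        refine fin x23 (hA1 f2 f3) (kx l2 l3 d23) ?_ (by rw [← e23]; exact hmul Kab Kac)
        have y12 : lin SS (v1 ^^^ v2) = 1 := by omega
        have y13 : lin SS (v1 ^^^ v3) = 1 := by omega
        rw [hsum, y12, y13]
        rfl
      · intro x hx y hy hya hyb hyc
        have h1 := (Subgroup.mem_centralizer_iff.1 hx.2) y ⟨hy, hya, hyb, hyc⟩
        exact h1.symm

/-- **(F18)** -/
theorem f18 (h1 : F1 geo) (h3 : F3 geo) (h4 : F4 geo) (h5 : F5 geo) (h6 : F6 geo) (h7 : F7 geo)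
    (h9 : F9 geo) (h13 : F13 geo) : F18 geo := by
  have : Finite 𝒢 := Cfsg.Agent.H858.VK.finite_J4
  exact f18_abs ⟨h1, h3, h4, h5, h6, h7, h9.kind, h13, r1 h5, z1 h4 h9.kind, z3 h4 h5 h6,
    be h4 h5 h6⟩

end Cfsg.Agent.H705.JM
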